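import Groth.Prelude.Def_QCohCat
import Groth.Agent.Lib.QCoh.Sections
import Groth.Agent.Lib.QCoh.Pullback
import Groth.Agent.Lib.CurveBundle.Coherent
import Mathlib.AlgebraicGeometry.ResidueField
import Mathlib.AlgebraicGeometry.IdealSheaf.Subscheme
import Mathlib.AlgebraicGeometry.IdealSheaf.Functorial
import Mathlib.AlgebraicGeometry.Morphisms.Affine

/-!
# A scheme whose quasi-coherent modules form a module category is affine

If `QCoh X ≌ Mod R` then the centre of `QCoh X` gives a ring map `R → Γ(X, O)` through which every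
endomorphism of the generator `P` is a scalar; for an affine `U ∋ x` a morphism from `P` to the
kernel of `P → i_* i^* P` (`i` the complement of `U`) then gives `f` with `x ∈ X_f ⊆ U`.
-/

set_option autoImplicit false
universe u

open CategoryTheory Limits AlgebraicGeometry Opposite TopologicalSpace

namespace Groth.Agent.Lib.QCohCat98.Affine

open Groth.Agent.Lib.QCoh

noncomputable section

variable {X : Scheme.{u}}

/-- The restriction of a global function to an open. -/
abbrev resTop (W : X.Opens) (f : Γ(X, ⊤)) : Γ(X, W) :=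
  X.presheaf.map (homOfLE (le_top : W ≤ ⊤)).op f

/-- The morphism out of `O_X` given by a global section. -/
def ofTop (M : X.Modules) (t : Γ(M, ⊤)) : Coh.structureModule X ⟶ M :=
  (SheafOfModules.unitHomEquiv M).symm
    ⟨fun V => M.presheaf.map (homOfLE (le_top : V.unop ≤ ⊤)).op t, fun {V W} g => by
      change (M.presheaf.map (homOfLE le_top).op ≫ M.presheaf.map g) t = _
      rw [← M.presheaf.map_comp]
      rfl⟩

theorem ofTop_one (M : X.Modules) (t : Γ(M, ⊤)) :
    (ofTop M t).app ⊤ (1 : Γ(X, ⊤)) = t := by
  let s := (SheafOfModules.unitHomEquiv M) (ofTop M t)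
  change s.val (op ⊤) = t
  simp only [s, ofTop, Equiv.apply_symm_apply]
  exact congr($(M.presheaf.map_id (op ⊤)) t)

/-- Natural endomorphisms of the identity of `QCoh X` are multiplications by global functions. -/
theorem app_eq_smul [QuasiSeparatedSpace X]
    (θ : 𝟭 (QCohCat.QCoh X) ⟶ 𝟭 (QCohCat.QCoh X)) (F : QCohCat.QCoh X) (W : X.Opens)
    (s : Γ(F.obj, W)) :
    (θ.app F).hom.app W s = resTop W ((θ.app ⟨Coh.structureModule X,
      CurveBundle.Coherent.isQCoh_unit X⟩).hom.app ⊤ (1 : Γ(X, ⊤))) • s := by
  set O : QCohCat.QCoh X := ⟨Coh.structureModule X, CurveBundle.Coherent.isQCoh_unit X⟩ with hO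
  set f : Γ(X, ⊤) := (θ.app O).hom.app ⊤ (1 : Γ(X, ⊤)) with hf
  -- global sections
  have htop : ∀ (G : QCohCat.QCoh X) (t : Γ(G.obj, ⊤)), (θ.app G).hom.app ⊤ t = f • t := by
    intro G t
    have h := θ.naturality (X := O) (Y := G) (ObjectProperty.homMk (ofTop G.obj t))
    have h2 := congr($(h).hom.app ⊤ (1 : Γ(X, ⊤)))
    change (θ.app G).hom.app ⊤ ((ofTop G.obj t).app ⊤ (1 : Γ(X, ⊤))) =
      (ofTop G.obj t).app ⊤ f at h2
    rw [ofTop_one] at h2
    rw [h2]
    have h3 := Scheme.Modules.Hom.app_smul (ofTop G.obj t) f (1 : Γ(X, ⊤))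
    rw [ofTop_one] at h3
    rw [← h3]
    exact congrArg _ (mul_one f).symm
  -- affine opens
  have haff : ∀ V : X.Opens, IsAffineOpen V → ∀ s : Γ(F.obj, V),
      (θ.app F).hom.app V s = resTop V f • s := by
    intro V hV s
    haveI : IsAffine V := hV
    haveI := F.property
    haveI : ((Scheme.Modules.restrictFunctor V.ι).obj F.obj).IsQuasicoherent := inferInstance
    let G : QCohCat.QCoh X :=
      ⟨(Scheme.Modules.pushforward V.ι).obj ((Scheme.Modules.restrictFunctor V.ι).obj F.obj),
        Pushforward.isQCoh_pushforward _⟩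
    let η : F ⟶ G := ObjectProperty.homMk ((Scheme.Modules.restrictAdjunction V.ι).unit.app F.obj)
    have hmap : ∀ {A B : X.Opens} (hle : A ≤ B), A = B →
        Function.Bijective (F.obj.presheaf.map (homOfLE hle).op) := by
      rintro A B hle rfl
      rw [show (homOfLE hle).op = 𝟙 (op A) from rfl, F.obj.presheaf.map_id]
      exact Function.bijective_id
    have hbij : Function.Bijective (η.hom.app V) := by
      change Function.Bijective (((Scheme.Modules.restrictAdjunction V.ι).unit.app F.obj).app V)
      rw [Scheme.Modules.restrictAdjunction_unit_app_app]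
      exact hmap _ (by simp [Scheme.Hom.image_preimage_eq_opensRange_inf])
    have hres : Function.Bijective (G.obj.presheaf.map (homOfLE (le_top : V ≤ ⊤)).op) :=
      hmap _ (by simp [Scheme.Hom.image_preimage_eq_opensRange_inf])
    obtain ⟨t, ht⟩ := hres.2 (η.hom.app V s)
    apply hbij.1
    have h := congr($(θ.naturality η).hom.app V s)
    change (θ.app G).hom.app V (η.hom.app V s) = η.hom.app V ((θ.app F).hom.app V s) at h
    rw [← h, ← ht, Scheme.Modules.Hom.app_smul]
    have hn : (θ.app G).hom.app V (G.obj.presheaf.map (homOfLE (le_top : V ≤ ⊤)).op t) =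
        G.obj.presheaf.map (homOfLE (le_top : V ≤ ⊤)).op ((θ.app G).hom.app ⊤ t) :=
      congr($((θ.app G).hom.mapPresheaf.naturality (homOfLE (le_top : V ≤ ⊤)).op) t)
    rw [hn, htop, Scheme.Modules.map_smul, ← ht]
  -- all opens
  apply TopCat.Sheaf.eq_of_locally_eq' (F := (⟨F.obj.presheaf, F.obj.isSheaf⟩ : TopCat.Sheaf AddCommGrpCat X))
    (U := fun V : {V : X.affineOpens // V.1 ≤ W} => V.1.1) (V := W) (iUV := fun V => homOfLE V.2)
  · intro x hx
    obtain ⟨V, hle, hxV⟩ := ClSub.Basis.exists_affine_le hx
    exact Opens.mem_iSup.mpr ⟨⟨V, hle⟩, hxV⟩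
  · intro V
    change F.obj.presheaf.map (homOfLE V.2).op ((θ.app F).hom.app W s) =
      F.obj.presheaf.map (homOfLE V.2).op (resTop W f • s)
    refine Eq.trans (congr($((θ.app F).hom.mapPresheaf.naturality (homOfLE V.2).op) s)).symm ?_
    refine (haff V.1.1 V.1.2 _).trans ?_
    rw [Scheme.Modules.map_smul]
    congr 1
    change _ = (X.presheaf.map _ ≫ X.presheaf.map _) f
    rw [← X.presheaf.map_comp]
    rfl

theorem unit_nontrivial (K : Scheme.{u}) (W : K.Opens) (z : K) (hz : z ∈ W) :
    (1 : Γ(K, W)) ≠ 0 := by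
  intro h
  have : (1 : K.presheaf.stalk z) = 0 := by
    rw [← map_one (K.presheaf.germ W z hz).hom, h, map_zero]
  exact one_ne_zero this

theorem app_resTop_eq {K : Scheme.{u}} (ι : K ⟶ X) (f : Γ(X, ⊤)) (W : X.Opens) :
    ι.app W (resTop W f) = resTop (ι ⁻¹ᵁ W) (ι.appTop f) :=
  congr($(ι.naturality (homOfLE (le_top : W ≤ ⊤)).op) f)

theorem appTop_eq_zero {K : Scheme.{u}} [IsReduced K] (ι : K ⟶ X) (f : Γ(X, ⊤))
    (h : ∀ z : K, ι z ∉ X.basicOpen f) : ι.appTop f = 0 := by
  rw [← basicOpen_eq_bot_iff, ← Scheme.preimage_basicOpen_top]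
  exact Opens.ext (Set.eq_empty_iff_forall_notMem.mpr h)

theorem isUnit_appTop {K : Scheme.{u}} (ι : K ⟶ X) (f : Γ(X, ⊤))
    (h : ∀ z : K, ι z ∈ X.basicOpen f) : IsUnit (ι.appTop f) := by
  refine K.toLocallyRingedSpace.toRingedSpace.isUnit_of_isUnit_germ ⊤ _ fun z _ => ?_
  have hz : z ∈ K.basicOpen (ι.appTop f) := by
    rw [← Scheme.preimage_basicOpen_top]; exact h z
  exact (K.mem_basicOpen (ι.appTop f) z trivial).mp hz

theorem isAffine (R : Type u) [CommRing R] [CompactSpace X] [QuasiSeparatedSpace X]
    (e : QCohCat.QCoh X ≌ ModuleCat.{u} R) : IsAffine X := by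
  classical
  haveI : PreservesBinaryBiproducts e.inverse := preservesBinaryBiproducts_of_preservesBinaryProducts _
  haveI : e.inverse.Additive := Functor.additive_of_preservesBinaryBiproducts _
  haveI : e.functor.Additive :=
    haveI : e.symm.functor.Additive := ‹e.inverse.Additive›
    e.symm.inverse_additive
  -- the centre
  let θ : R → (𝟭 (QCohCat.QCoh X) ⟶ 𝟭 (QCohCat.QCoh X)) := fun r =>
    { app := fun F => e.functor.preimage (ModuleCat.ofHom (r • LinearMap.id))
      naturality := fun F G φ => e.functor.map_injective (by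
        ext v
        simp) }
  have θmap : ∀ (r : R) (F : QCohCat.QCoh X),
      e.functor.map ((θ r).app F) = ModuleCat.ofHom (r • LinearMap.id) := fun r F =>
    e.functor.map_preimage _
  let O : QCohCat.QCoh X := ⟨Coh.structureModule X, CurveBundle.Coherent.isQCoh_unit X⟩
  let c : R → Γ(X, ⊤) := fun r => ((θ r).app O).hom.app ⊤ (1 : Γ(X, ⊤))
  have hθ : ∀ (r : R) (F : QCohCat.QCoh X) (W : X.Opens) (s : Γ(F.obj, W)),
      ((θ r).app F).hom.app W s = resTop W (c r) • s := fun r F W s => app_eq_smul (θ r) F W s
  let P : QCohCat.QCoh X := e.inverse.obj (ModuleCat.of R R)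
  -- endomorphisms of the generator are scalars
  have hend : ∀ φ : P ⟶ P, ∃ r : R, φ = (θ r).app P := by
    intro φ
    let i := e.counitIso.app (ModuleCat.of R R)
    let ψ : ModuleCat.of R R ⟶ ModuleCat.of R R := i.inv ≫ e.functor.map φ ≫ i.hom
    refine ⟨ψ.hom (1 : R), e.functor.map_injective ?_⟩
    rw [θmap, ← cancel_mono i.hom, ← cancel_epi i.inv]
    change ψ = _
    ext
    simp
  -- the generator detects morphisms
  have hsep : ∀ {F G : QCohCat.QCoh X} (ψ : F ⟶ G), ψ ≠ 0 → ∃ φ : P ⟶ F, φ ≫ ψ ≠ 0 := by
    intro F G ψ hψ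
    by_contra! hall
    refine hψ (e.functor.map_injective ?_)
    rw [Functor.map_zero]
    ext (v : e.functor.obj F)
    let i := e.counitIso.app (ModuleCat.of R R)
    have h2 := congr(e.functor.map $(hall
      (e.functor.preimage (i.hom ≫ ModuleCat.ofHom (LinearMap.toSpanSingleton R _ v)))))
    rw [Functor.map_comp, Functor.map_preimage, Functor.map_zero] at h2
    have h3 := congr($(h2).hom (i.inv.hom (1 : R)))
    simpa using h3
  -- skyscrapers
  have hqc : ∀ {K : Scheme.{u}} [IsAffine K] (ι : K ⟶ X),
      ((Scheme.Modules.pushforward ι).obj (Coh.structureModule K)).IsQuasicoherent := by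
    intro K _ ι
    haveI : (Coh.structureModule K).IsQuasicoherent := CurveBundle.Coherent.isQCoh_unit K
    exact Pushforward.isQCoh_pushforward ι
  have hnz : ∀ {K : Scheme.{u}} [IsAffine K] [Nonempty K] (ι : K ⟶ X),
      ∃ ψ : P ⟶ (⟨_, hqc ι⟩ : QCohCat.QCoh X), ψ ≠ 0 := by
    intro K _ _ ι
    obtain ⟨φ, hφ⟩ := hsep (𝟙 (⟨_, hqc ι⟩ : QCohCat.QCoh X)) (fun h => by
      have h2 := congr($(h).hom.app ⊤ (1 : Γ(K, ⊤)))
      exact unit_nontrivial K ⊤ (Classical.arbitrary K) trivial h2)
    exact ⟨φ, by simpa using hφ⟩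
  -- a global function cutting out an affine neighbourhood
  have key : ∀ x : X, ∃ r : R, x ∈ X.basicOpen (c r) ∧ IsAffineOpen (X.basicOpen (c r)) := by
    intro x
    obtain ⟨U, -, hxU⟩ := ClSub.Basis.exists_affine_le (U := (⊤ : X.Opens)) (x := x) trivial
    let I := Scheme.IdealSheafData.vanishingIdeal (X := X) ⟨(U.1 : Set X)ᶜ, U.1.isOpen.isClosed_compl⟩
    let i := I.subschemeι
    have hrange : Set.range i = (U.1 : Set X)ᶜ := by
      rw [Scheme.IdealSheafData.range_subschemeι, Scheme.IdealSheafData.coe_support_vanishingIdeal]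
      rfl
    haveI : P.obj.IsQuasicoherent := P.property
    haveI : ((Scheme.Modules.pullback i).obj P.obj).IsQuasicoherent := Pullback.isQCoh_pullback i P.obj
    let G : X.Modules := (Scheme.Modules.pushforward i).obj ((Scheme.Modules.pullback i).obj P.obj)
    haveI hG : G.IsQuasicoherent := Pushforward.isQCoh_pushforward i
    let η : P.obj ⟶ G := (Scheme.Modules.pullbackPushforwardAdjunction i).unit.app P.obj
    let J : QCohCat.QCoh X := ⟨kernel η, Closure.isQCoh_kernel η⟩
    let incl : J ⟶ P := ObjectProperty.homMk (kernel.ι η)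
    -- the point `x`
    let ιx := X.fromSpecResidueField x
    obtain ⟨ψx, hψx⟩ := hnz ιx
    have h1 : incl ≫ ψx ≠ 0 := by
      intro h
      apply hψx
      apply ObjectProperty.hom_ext
      refine Scheme.Modules.hom_ext_iff.mpr fun W => ?_
      ext (t : Γ(P.obj, W))
      -- restrict to the part inside `U`
      have hbij : Function.Bijective
          (((Scheme.Modules.pushforward ιx).obj (Coh.structureModule _)).presheaf.map
            (homOfLE (inf_le_left : W ⊓ U.1 ≤ W)).op) := by
        change Function.Bijective ((Coh.structureModule (Spec (X.residueField x))).presheaf.map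
          (homOfLE (ιx.preimage_mono (inf_le_left : W ⊓ U.1 ≤ W))).op)
        have he : ιx ⁻¹ᵁ (W ⊓ U.1) = ιx ⁻¹ᵁ W := by
          refine Opens.ext (Set.ext fun z => ⟨fun hz => hz.1, fun hz => ⟨hz, ?_⟩⟩)
          rw [SetLike.mem_coe, Scheme.fromSpecResidueField_apply]
          exact hxU
        have : IsIso (homOfLE (ιx.preimage_mono (inf_le_left : W ⊓ U.1 ≤ W))).op := by
          rw [show (homOfLE (ιx.preimage_mono (inf_le_left : W ⊓ U.1 ≤ W))).op =
            (eqToHom he).op from rfl]
          infer_instance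
        exact ConcreteCategory.bijective_of_isIso _
      apply hbij.1
      refine Eq.trans (congr($(ψx.hom.mapPresheaf.naturality
        (homOfLE (inf_le_left : W ⊓ U.1 ≤ W)).op) t)).symm ?_
      let S := ShortComplex.mk (kernel.ι η) η (kernel.condition η)
      haveI : Mono S.f := inferInstanceAs (Mono (kernel.ι η))
      obtain ⟨t', ht'⟩ := Closure.sections_exact (S := S)
        (S.exact_of_f_is_kernel (kernelIsKernel η)) (W ⊓ U.1)
        (P.obj.presheaf.map (homOfLE (inf_le_left : W ⊓ U.1 ≤ W)).op t) (by
          have he : i ⁻¹ᵁ (W ⊓ U.1) = ⊥ := by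
            refine Opens.ext (Set.eq_empty_iff_forall_notMem.mpr fun z hz => ?_)
            have : i z ∈ (U.1 : Set X)ᶜ := hrange ▸ Set.mem_range_self z
            exact this hz.2
          have : Subsingleton Γ(G, W ⊓ U.1) := by
            change Subsingleton Γ((Scheme.Modules.pullback i).obj P.obj, i ⁻¹ᵁ (W ⊓ U.1))
            rw [he]
            exact AddCommGrpCat.subsingleton_of_isZero
              (TopCat.Sheaf.isTerminalOfEmpty
                ⟨_, ((Scheme.Modules.pullback i).obj P.obj).isSheaf⟩).isZero
          exact Subsingleton.elim _ _)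
      change ψx.hom.app (W ⊓ U.1) _ = _
      refine (congrArg (ψx.hom.app (W ⊓ U.1)) ht'.symm).trans ?_
      refine (congr($(h).hom.app (W ⊓ U.1) t')).trans ?_
      exact (map_zero _).symm
    obtain ⟨φ, hφ⟩ := hsep (incl ≫ ψx) h1
    obtain ⟨r, hr⟩ := hend (φ ≫ incl)
    refine ⟨r, ?_, ?_⟩
    · -- `c r` does not vanish at `x`
      by_contra hx
      apply hφ
      rw [← Category.assoc, hr]
      rw [show (θ r).app P ≫ ψx = ψx ≫ (θ r).app _ from ((θ r).naturality ψx).symm]
      apply ObjectProperty.hom_ext
      refine Scheme.Modules.hom_ext_iff.mpr fun W => ?_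
      ext (t : Γ(P.obj, W))
      change ((θ r).app _).hom.app W (ψx.hom.app W t) = 0
      rw [hθ]
      change ιx.app W (resTop W (c r)) * _ = (0 : Γ(Spec (X.residueField x), ιx ⁻¹ᵁ W))
      rw [app_resTop_eq, appTop_eq_zero ιx (c r)
        (fun z => by rw [Scheme.fromSpecResidueField_apply]; exact hx)]
      simp only [resTop, map_zero, zero_mul]
    · -- `c r` vanishes off `U`
      have hle : X.basicOpen (c r) ≤ U.1 := by
        intro y hy
        by_contra hyU
        obtain ⟨z, hz⟩ : y ∈ Set.range i := hrange ▸ hyU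
        let ι' := I.subscheme.fromSpecResidueField z
        haveI : ((Scheme.Modules.pushforward ι').obj
            (Coh.structureModule (Spec (I.subscheme.residueField z)))).IsQuasicoherent := by
          haveI : (Coh.structureModule (Spec (I.subscheme.residueField z))).IsQuasicoherent :=
            CurveBundle.Coherent.isQCoh_unit _
          exact Pushforward.isQCoh_pushforward ι'
        obtain ⟨ψ, hψ⟩ := hnz (ι' ≫ i)
        apply hψ
        -- `ψ` factors through `η`
        obtain ⟨β, hβ⟩ : ∃ β, ψ.hom = η ≫ β := by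
          let a := (Scheme.Modules.pushforwardComp ι' i).app
            (Coh.structureModule (Spec (I.subscheme.residueField z)))
          refine ⟨(Scheme.Modules.pushforward i).map
            (((Scheme.Modules.pullbackPushforwardAdjunction i).homEquiv _ _).symm
              (ψ.hom ≫ a.inv)) ≫ a.hom, ?_⟩
          rw [← Category.assoc, ← Adjunction.homEquiv_unit, Equiv.apply_symm_apply,
            Category.assoc, a.inv_hom_id, Category.comp_id]
        have hzero : ((θ r).app P ≫ ψ).hom = 0 := by
          rw [← hr]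
          change ((φ.hom ≫ kernel.ι η) ≫ ψ.hom) = 0
          rw [hβ, Category.assoc, kernel.condition_assoc, zero_comp, comp_zero]
        apply ObjectProperty.hom_ext
        refine Scheme.Modules.hom_ext_iff.mpr fun W => ?_
        ext (t : Γ(P.obj, W))
        have h0 := congr($(hzero).app W t)
        rw [show (θ r).app P ≫ ψ = ψ ≫ (θ r).app _ from ((θ r).naturality ψ).symm] at h0
        change ((θ r).app _).hom.app W (ψ.hom.app W t) = 0 at h0
        rw [hθ] at h0
        have hu : IsUnit ((ι' ≫ i).app W (resTop W (c r))) := by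
          rw [app_resTop_eq]
          refine (isUnit_appTop (ι' ≫ i) (c r) fun w => ?_).map _
          have : (ι' ≫ i) w = y := by
            rw [Scheme.Hom.comp_apply, Scheme.fromSpecResidueField_apply, hz]
          rwa [this]
        exact hu.mul_right_eq_zero.mp h0
      have : X.basicOpen (c r) = X.basicOpen (resTop U.1 (c r)) := by
        rw [resTop, X.basicOpen_res]
        exact (inf_eq_right.mpr hle).symm
      rw [this]
      exact U.2.basicOpen _
  choose r hr haff using key
  -- ring map
  have hspan : Ideal.span (Set.range fun x => c (r x)) = ⊤ := by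
    have c_one : c 1 = 1 := by
      have h : (θ 1).app O = 𝟙 O := e.functor.map_injective (by
        rw [θmap]
        exact ((by ext; simp : ModuleCat.ofHom ((1 : R) • LinearMap.id) = 𝟙 (e.functor.obj O))).trans
          (e.functor.map_id _).symm)
      simp only [c, h]; rfl
    have c_add : ∀ a b, c (a + b) = c a + c b := by
      intro a b
      have h : (θ (a + b)).app O = (θ a).app O + (θ b).app O :=
        e.functor.map_injective (by rw [Functor.map_add, θmap, θmap, θmap]; ext; simp [add_smul])
      simp only [c, h]; rfl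
    have c_mul : ∀ a b, c (a * b) = c a * c b := by
      intro a b
      have h : (θ (a * b)).app O = (θ b).app O ≫ (θ a).app O :=
        e.functor.map_injective (by rw [Functor.map_comp, θmap, θmap, θmap]; ext; simp [mul_smul])
      conv_lhs => simp only [c, h]
      change ((θ a).app O).hom.app ⊤ (c b) = _
      rw [hθ]
      change X.presheaf.map (𝟙 (op ⊤)) (c a) * c b = _
      rw [X.presheaf.map_id]; rfl
    let cR : R →+* Γ(X, ⊤) :=
      { toFun := c, map_one' := c_one, map_mul' := c_mul,
        map_zero' := by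
          have := c_add 0 0
          rw [add_zero] at this
          exact left_eq_add.mp this
        map_add' := c_add }
    suffices hR : Ideal.span (Set.range r) = ⊤ by
      have := congrArg (Ideal.map cR) hR
      rw [Ideal.map_span, Ideal.map_top, ← Set.range_comp] at this
      exact this
    by_contra hne
    let Q : ModuleCat R := ModuleCat.of R (R ⧸ Ideal.span (Set.range r))
    let F : QCohCat.QCoh X := e.inverse.obj Q
    have hkill : ∀ x, (θ (r x)).app F = 0 := fun x => e.functor.map_injective (by
      rw [θmap, Functor.map_zero, ← cancel_mono (e.counitIso.hom.app Q)]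
      ext (v : e.functor.obj F)
      change (e.counitIso.hom.app Q).hom (r x • v) = (e.counitIso.hom.app Q).hom 0
      rw [map_smul, map_zero]
      obtain ⟨q, hq⟩ := Ideal.Quotient.mk_surjective ((e.counitIso.hom.app Q).hom v)
      rw [← hq]
      exact Ideal.Quotient.eq_zero_iff_mem.mpr
        (Ideal.mul_mem_right _ _ (Ideal.subset_span (Set.mem_range_self x))))
    have hF : 𝟙 F = 0 := by
      apply ObjectProperty.hom_ext
      refine Scheme.Modules.hom_ext_iff.mpr fun W => ?_
      ext (t : Γ(F.obj, W))
      change t = 0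
      apply TopCat.Sheaf.eq_of_locally_eq' (F := (⟨F.obj.presheaf, F.obj.isSheaf⟩ :
        TopCat.Sheaf AddCommGrpCat X)) (U := fun x : X => W ⊓ X.basicOpen (c (r x))) (V := W)
        (iUV := fun x => homOfLE inf_le_left)
      · intro z hz
        exact Opens.mem_iSup.mpr ⟨z, hz, hr z⟩
      · intro x
        have hu : IsUnit (resTop (W ⊓ X.basicOpen (c (r x))) (c (r x))) := by
          refine X.toLocallyRingedSpace.toRingedSpace.isUnit_of_isUnit_germ _ _ fun z hz => ?_
          have := (X.mem_basicOpen (c (r x)) z trivial).mp hz.2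
          rwa [← X.presheaf.germ_res_apply (homOfLE le_top) z hz] at this
        change F.obj.presheaf.map (homOfLE inf_le_left).op t =
          F.obj.presheaf.map (homOfLE inf_le_left).op 0
        rw [map_zero, ← hu.smul_eq_zero, ← hθ, hkill]
        rfl
    apply hne
    rw [Ideal.eq_top_iff_one, ← Ideal.Quotient.eq_zero_iff_mem]
    have h2 := congr((e.functor.map $hF).hom ((e.counitIso.inv.app Q).hom
      (Ideal.Quotient.mk (Ideal.span (Set.range r)) 1)))
    rw [e.functor.map_id, Functor.map_zero] at h2
    have h3 := congrArg (e.counitIso.hom.app Q).hom h2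
    simpa using h3
  exact isAffine_of_isAffineOpen_basicOpen _ hspan (by
    rintro _ ⟨x, rfl⟩
    exact haff x)

end

end Groth.Agent.Lib.QCohCat98.Affine
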